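import Mathlib
import Groth.Prelude.Def_W4c6brauerbgmalleOrbPic

set_option autoImplicit false
universe u v

open W4c6brauerbgmalle

namespace Groth.Agent.Orb8

theorem exists_int_of_toQmodZ_eq_zero {q : ℚ} (h : toQmodZ q = 0) : ∃ n : ℤ, q = n := by
  obtain ⟨n, hn⟩ := AddSubgroup.mem_zmultiples_iff.mp ((QuotientAddGroup.eq_zero_iff q).mp h)
  exact ⟨n, by rw [← hn]; simp⟩

theorem toQmodZ_int (n : ℤ) : toQmodZ (n : ℚ) = 0 :=
  (QuotientAddGroup.eq_zero_iff _).mpr (AddSubgroup.mem_zmultiples_iff.mpr ⟨n, by simp⟩)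

theorem orb_exact (G : Type u) [Group G] (C : Set G) (hC : ∀ g h : G, g ∈ C → h * g * h⁻¹ ∈ C) :
    (∀ χ : Additive G →+ QmodZ, ∃ w : G → ℚ, (χ, w) ∈ picOrb G C) ∧
      (∀ p : (Additive G →+ QmodZ) × (G → ℚ), p ∈ picOrb G C → p.1 = 0 → p.2 ∈ intWeights G C) := by
  classical
  refine ⟨fun χ => ⟨fun g => if g ∈ C ∧ g ≠ 1 then Quotient.out (χ (Additive.ofMul g)) else 0, ?_, ?_, ?_, ?_⟩, ?_⟩
  · simp
  · intro g hg; exact if_neg fun h => hg h.1
  · intro g h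
    have hχ : χ (Additive.ofMul (h * g * h⁻¹)) = χ (Additive.ofMul g) := by
      rw [ofMul_mul, ofMul_mul, ofMul_inv, map_add, map_add, map_neg]; abel
    have hiff : (h * g * h⁻¹ ∈ C ∧ h * g * h⁻¹ ≠ 1) ↔ (g ∈ C ∧ g ≠ 1) := by
      refine ⟨fun ⟨a, b⟩ => ⟨?_, fun e => b (by rw [e]; group)⟩, fun ⟨a, b⟩ => ⟨hC g h a, fun e => b ?_⟩⟩
      · have := hC _ h⁻¹ a
        simpa [mul_assoc] using this
      · exact conj_eq_one_iff.mp e
    show (if _ then _ else _) = (if _ then _ else _)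
    simp only [hiff, hχ]
  · intro g hg
    show toQmodZ (if _ then _ else _) = χ _
    by_cases h1 : g = 1
    · subst h1; simp
    · rw [if_pos ⟨hg, h1⟩]; exact Quotient.out_eq _
  · intro p hp h0
    obtain ⟨h1, h2, h3, h4⟩ := hp
    refine ⟨h1, h2, h3, fun g => ?_⟩
    by_cases hg : g ∈ C
    · exact exists_int_of_toQmodZ_eq_zero (by rw [h4 g hg, h0]; rfl)
    · exact ⟨0, by rw [h2 g hg]; simp⟩

theorem eq_of_weight_eq (G : Type u) [Group G] (C : Set G) (hC : Subgroup.closure C = ⊤)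
    {p q : (Additive G →+ QmodZ) × (G → ℚ)} (hp : p ∈ picOrb G C) (hq : q ∈ picOrb G C) (h : p.2 = q.2) : p = q := by
  refine Prod.ext (AddMonoidHom.ext fun a => ?_) h
  have : Additive.toMul a ∈ Subgroup.closure C := by rw [hC]; trivial
  show p.1 (Additive.ofMul (Additive.toMul a)) = q.1 (Additive.ofMul (Additive.toMul a))
  generalize Additive.toMul a = g at this
  induction this using Subgroup.closure_induction with
  | mem g hg => rw [← hp.2.2.2 g hg, ← hq.2.2.2 g hg, h]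
  | one => simp
  | mul x y _ _ hx hy => rw [ofMul_mul, map_add, map_add, hx, hy]
  | inv x _ hx => rw [ofMul_inv, map_neg, map_neg, hx]

theorem orb_injective (G : Type u) [Group G] (C : Set G) (hC : Subgroup.closure C = ⊤) :
    Set.InjOn (fun p : (Additive G →+ QmodZ) × (G → ℚ) => p.2) (picOrb G C) ∧
      (∀ w ∈ intWeights G C, ((0 : Additive G →+ QmodZ), w) ∈ picOrb G C) ∧
      ∀ (n : ℕ) (p : (Additive G →+ QmodZ) × (G → ℚ)), p ∈ picOrb G C → n ≠ 0 → n • p = 0 → p = 0 := by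
  refine ⟨fun p hp q hq h => eq_of_weight_eq G C hC hp hq h, ?_, ?_⟩
  · rintro w ⟨h1, h2, h3, h4⟩
    refine ⟨h1, h2, h3, fun g _ => ?_⟩
    obtain ⟨n, hn⟩ := h4 g
    show toQmodZ (w g) = 0
    rw [hn, toQmodZ_int]
  · intro n p hp hn h
    refine eq_of_weight_eq G C hC hp (picOrb G C).zero_mem (funext fun g => ?_)
    have := congrFun (congrArg Prod.snd h) g
    simpa [hn] using this

theorem orb_prod (G₁ : Type u) (G₂ : Type v) [Group G₁] [Group G₂] (C₁ : Set G₁) (C₂ : Set G₂) :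
    Set.BijOn
      (fun p : (Additive (G₁ × G₂) →+ QmodZ) × (G₁ × G₂ → ℚ) =>
        ((p.1.comp (MonoidHom.toAdditive (MonoidHom.inl G₁ G₂)), fun g => p.2 (g, 1)),
          (p.1.comp (MonoidHom.toAdditive (MonoidHom.inr G₁ G₂)), fun g => p.2 (1, g))))
      (picOrb (G₁ × G₂) ((fun g => (g, (1 : G₂))) '' C₁ ∪ (fun g => ((1 : G₁), g)) '' C₂))
      ((picOrb G₁ C₁ : Set _) ×ˢ (picOrb G₂ C₂ : Set _)) := by
  classical
  refine ⟨?_, ?_, ?_⟩
  · rintro ⟨χ, w⟩ ⟨h1, h2, h3, h4⟩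
    refine ⟨⟨h1, fun g hg => ?_, fun g h => ?_, fun g hg => h4 (g, 1) (Or.inl ⟨g, hg, rfl⟩)⟩,
      ⟨h1, fun g hg => ?_, fun g h => ?_, fun g hg => h4 (1, g) (Or.inr ⟨g, hg, rfl⟩)⟩⟩
    · by_cases hg1 : g = 1
      · subst hg1; exact h1
      refine h2 _ ?_
      rintro (⟨a, ha, he⟩ | ⟨a, ha, he⟩)
      · obtain rfl : a = g := (Prod.ext_iff.mp he).1
        exact hg ha
      · exact hg1 (Prod.ext_iff.mp he).1.symm
    · have := h3 (g, 1) (h, 1); simpa using this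
    · by_cases hg1 : g = 1
      · subst hg1; exact h1
      refine h2 _ ?_
      rintro (⟨a, ha, he⟩ | ⟨a, ha, he⟩)
      · exact hg1 (Prod.ext_iff.mp he).2.symm
      · obtain rfl : a = g := (Prod.ext_iff.mp he).2
        exact hg ha
    · have := h3 (1, g) (1, h); simpa using this
  · rintro ⟨χ, w⟩ ⟨-, h2, -, -⟩ ⟨χ', w'⟩ ⟨-, h2', -, -⟩ he
    simp only [Prod.mk.injEq] at he
    obtain ⟨⟨hl, hwl⟩, hr, hwr⟩ := he
    refine Prod.ext (AddMonoidHom.ext fun a => ?_) (funext fun ⟨g, h⟩ => ?_)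
    · obtain ⟨⟨g, h⟩, rfl⟩ : ∃ x, Additive.ofMul x = a := ⟨_, Additive.ofMul.apply_symm_apply a⟩
      show χ (Additive.ofMul (g, h)) = χ' (Additive.ofMul (g, h))
      rw [show (g, h) = (g, 1) * (1, h) by simp, ofMul_mul, map_add, map_add]
      exact congrArg₂ (· + ·) (DFunLike.congr_fun hl (Additive.ofMul g)) (DFunLike.congr_fun hr (Additive.ofMul h))
    · by_cases hh : h = 1
      · subst hh; exact congrFun hwl g
      by_cases hg : g = 1
      · subst hg; exact congrFun hwr h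
      have : (g, h) ∉ (fun g => (g, (1 : G₂))) '' C₁ ∪ (fun g => ((1 : G₁), g)) '' C₂ := by
        rintro (⟨a, ha, he⟩ | ⟨a, ha, he⟩)
        · exact hh (Prod.ext_iff.mp he).2.symm
        · exact hg (Prod.ext_iff.mp he).1.symm
      show w (g, h) = w' (g, h)
      exact (h2 _ this).trans (h2' _ this).symm
  · rintro ⟨⟨χ₁, w₁⟩, ⟨χ₂, w₂⟩⟩ ⟨⟨a1, a2, a3, a4⟩, ⟨b1, b2, b3, b4⟩⟩
    simp only at a1 a2 a3 a4 b1 b2 b3 b4
    let χ := χ₁.comp (MonoidHom.toAdditive (MonoidHom.fst G₁ G₂)) + χ₂.comp (MonoidHom.toAdditive (MonoidHom.snd G₁ G₂))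
    let w : G₁ × G₂ → ℚ := fun x => if x.2 = 1 then w₁ x.1 else if x.1 = 1 then w₂ x.2 else 0
    refine ⟨(χ, w), ⟨?_, ?_, ?_, ?_⟩, ?_⟩
    · simpa [w] using a1
    · rintro ⟨g, h⟩ hx
      simp only [w]
      split_ifs with e1 e2
      · subst e1; exact a2 g fun hg => hx (Or.inl ⟨g, hg, rfl⟩)
      · subst e2; exact b2 h fun hh => hx (Or.inr ⟨h, hh, rfl⟩)
      · rfl
    · rintro ⟨g, h⟩ ⟨g', h'⟩
      simp only [w, Prod.fst_mul, Prod.snd_mul, Prod.fst_inv, Prod.snd_inv, conj_eq_one_iff, a3, b3]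
    · rintro _ (⟨g, hg, rfl⟩ | ⟨h, hh, rfl⟩)
      · simp only [w, χ, if_true]
        rw [a4 g hg]; simp
      · by_cases h1 : h = 1
        · subst h1; simp [w, χ, a1]
        · simp only [w, χ, h1, if_false, if_true]
          rw [b4 h hh]; simp
    · refine Prod.ext (Prod.ext (AddMonoidHom.ext fun a => ?_) (funext fun g => ?_))
        (Prod.ext (AddMonoidHom.ext fun a => ?_) (funext fun g => ?_))
      · simp [χ]
      · simp [w]
      · simp [χ]
      · by_cases h1 : g = 1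
        · subst h1; simp [w, a1, b1]
        · simp [w, h1]

end Groth.Agent.Orb8
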